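import Groth.Prelude.Def_DualLC
import Mathlib.RingTheory.Flat.EquationalCriterion
import Mathlib.RingTheory.Length
import Mathlib.RingTheory.LocalRing.MaximalIdeal.Basic

/-!
Independence in the sense of Lech: factor lemma, lengths, flat base change.
-/

set_option autoImplicit false

universe u

namespace Groth.LechIndep

open Dual2

variable {A : Type u} [CommRing A] {r : ℕ}

lemma span_update_mul_le (f : Fin r → A) (i : Fin r) (g : A) :
    Ideal.span (Set.range (Function.update f i (f i * g))) ≤ Ideal.span (Set.range f) := by
  rw [Ideal.span_le]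
  rintro _ ⟨j, rfl⟩
  by_cases h : j = i
  · subst h
    rw [Function.update_self]
    exact Ideal.mul_mem_right _ _ (Ideal.subset_span ⟨j, rfl⟩)
  · rw [Function.update_of_ne h]
    exact Ideal.subset_span ⟨j, rfl⟩

lemma independent_of_update_mul (f : Fin r → A) (i : Fin r) (g : A)
    (h : Independent (Function.update f i (f i * g))) : Independent f := by
  intro a ha
  set f' := Function.update f i (f i * g) with hf'
  have hsplit : ∀ b : Fin r → A, ∑ j, b j * f' j =
      b i * (f i * g) + ∑ j ∈ Finset.univ.erase i, b j * f j := by
    intro b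
    rw [← Finset.add_sum_erase _ _ (Finset.mem_univ i), hf', Function.update_self]
    congr 1
    exact Finset.sum_congr rfl fun j hj => by rw [Function.update_of_ne (Finset.ne_of_mem_erase hj)]
  rw [← Finset.add_sum_erase _ _ (Finset.mem_univ i)] at ha
  have h1 : a i ∈ Ideal.span (Set.range f') := by
    have := h (Function.update (fun j => a j * g) i (a i)) ?_ i
    · rwa [Function.update_self] at this
    · rw [hsplit, Function.update_self,
        Finset.sum_congr rfl fun j hj => by rw [Function.update_of_ne (Finset.ne_of_mem_erase hj)]]
      calc a i * (f i * g) + ∑ j ∈ Finset.univ.erase i, a j * g * f j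
          = g * (a i * f i + ∑ j ∈ Finset.univ.erase i, a j * f j) := by
            rw [mul_add, Finset.mul_sum]
            congr 1
            · ring
            · exact Finset.sum_congr rfl fun j _ => by ring
        _ = 0 := by rw [ha, mul_zero]
  have hle := span_update_mul_le f i g
  intro j
  by_cases hj : j = i
  · subst hj; exact hle h1
  obtain ⟨c, hc⟩ := Ideal.mem_span_range_iff_exists_fun.1 h1
  rw [hsplit] at hc
  have h2 := h (Function.update (fun k => a k + c k * f i) i (c i * f i)) ?_ j
  · rw [Function.update_of_ne hj] at h2
    have h3 := Ideal.sub_mem _ (hle h2)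
      (Ideal.mul_mem_left (Ideal.span (Set.range f)) (c j) (Ideal.subset_span ⟨i, rfl⟩))
    simpa using h3
  · rw [hsplit, Function.update_self,
      Finset.sum_congr rfl fun j hj => by rw [Function.update_of_ne (Finset.ne_of_mem_erase hj)]]
    calc c i * f i * (f i * g) + ∑ k ∈ Finset.univ.erase i, (a k + c k * f i) * f k
        = f i * (c i * (f i * g) + ∑ k ∈ Finset.univ.erase i, c k * f k) +
            ∑ k ∈ Finset.univ.erase i, a k * f k := by
          rw [mul_add, Finset.mul_sum, add_assoc, ← Finset.sum_add_distrib]
          congr 1
          · ring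
          · exact Finset.sum_congr rfl fun k _ => by ring
      _ = a i * f i + ∑ k ∈ Finset.univ.erase i, a k * f k := by rw [hc]; ring
      _ = 0 := ha

lemma length_quotient_update_mul (f : Fin r → A) (i : Fin r) (g : A)
    (h : Independent (Function.update f i (f i * g))) :
    Module.length A (A ⧸ Ideal.span (Set.range (Function.update f i (f i * g)))) =
      Module.length A (A ⧸ Ideal.span (Set.range f)) +
        Module.length A (A ⧸ Ideal.span (Set.range (Function.update f i g))) := by
  set I := Ideal.span (Set.range f) with hI
  set I' := Ideal.span (Set.range (Function.update f i (f i * g))) with hI'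
  set I'' := Ideal.span (Set.range (Function.update f i g)) with hI''
  have hmem : ∀ j, j ≠ i → f j ∈ I' := fun j hj =>
    Ideal.subset_span ⟨j, Function.update_of_ne hj _ _⟩
  have hig : f i * g ∈ I' := Ideal.subset_span ⟨i, Function.update_self _ _ _⟩
  have hmul : I'' ≤ Submodule.comap (LinearMap.mulLeft A (f i)) I' := by
    rw [hI'', Ideal.span_le]
    rintro _ ⟨j, rfl⟩
    change f i * _ ∈ I'
    by_cases hj : j = i
    · subst hj; rwa [Function.update_self]
    · rw [Function.update_of_ne hj]; exact Ideal.mul_mem_left _ _ (hmem j hj)
  let φ : (A ⧸ I'') →ₗ[A] (A ⧸ I') := Submodule.mapQ I'' I' (LinearMap.mulLeft A (f i)) hmul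
  have hle : I' ≤ I := span_update_mul_le f i g
  let ψ : (A ⧸ I') →ₗ[A] (A ⧸ I) := Submodule.mapQ I' I LinearMap.id hle
  have hle2 : I' ≤ I'' := by
    rw [hI', Ideal.span_le]
    rintro _ ⟨j, rfl⟩
    by_cases hj : j = i
    · subst hj
      rw [Function.update_self]
      exact Ideal.mul_mem_left _ _ (Ideal.subset_span ⟨j, Function.update_self _ _ _⟩)
    · rw [Function.update_of_ne hj]
      exact Ideal.subset_span ⟨j, Function.update_of_ne hj _ _⟩
  have hφ : Function.Injective φ := by
    rw [← LinearMap.ker_eq_bot, Submodule.eq_bot_iff]
    intro x hx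
    obtain ⟨x, rfl⟩ := Submodule.Quotient.mk_surjective _ x
    rw [Submodule.Quotient.mk_eq_zero]
    have hx' : f i * x ∈ I' := (Submodule.Quotient.mk_eq_zero _).1 hx
    obtain ⟨c, hc⟩ := Ideal.mem_span_range_iff_exists_fun.1 hx'
    rw [← Finset.add_sum_erase _ _ (Finset.mem_univ i), Function.update_self,
      Finset.sum_congr rfl fun j hj => by rw [Function.update_of_ne (Finset.ne_of_mem_erase hj)]] at hc
    have h2 := h (Function.update (fun k => -(c k * g)) i (x - c i * g)) ?_ i
    · rw [Function.update_self] at h2
      have h3 := Ideal.add_mem _ (hle2 h2) (Ideal.mul_mem_left I'' (c i)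
        (Ideal.subset_span ⟨i, Function.update_self _ _ _⟩))
      simpa using h3
    · rw [← Finset.add_sum_erase _ _ (Finset.mem_univ i), Function.update_self, Function.update_self,
        Finset.sum_congr rfl fun j hj => by
          rw [Function.update_of_ne (Finset.ne_of_mem_erase hj),
            Function.update_of_ne (Finset.ne_of_mem_erase hj)]]
      calc (x - c i * g) * (f i * g) + ∑ j ∈ Finset.univ.erase i, -(c j * g) * f j
          = g * (f i * x - (c i * (f i * g) + ∑ j ∈ Finset.univ.erase i, c j * f j)) := by
            rw [mul_sub, mul_add, Finset.mul_sum, sub_add_eq_sub_sub, sub_eq_add_neg (g * _ - _),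
              ← Finset.sum_neg_distrib]
            congr 1
            · ring
            · exact Finset.sum_congr rfl fun j _ => by ring
        _ = 0 := by rw [hc, sub_self, mul_zero]
  have hψ : Function.Surjective ψ := fun x => by
    obtain ⟨x, rfl⟩ := Submodule.Quotient.mk_surjective _ x
    exact ⟨Submodule.Quotient.mk x, rfl⟩
  have hex : Function.Exact φ ψ := by
    intro x
    obtain ⟨x, rfl⟩ := Submodule.Quotient.mk_surjective _ x
    constructor
    · intro hx
      obtain ⟨c, hc⟩ := Ideal.mem_span_range_iff_exists_fun.1 ((Submodule.Quotient.mk_eq_zero I).1 hx)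
      simp only [LinearMap.id_apply] at hc
      refine ⟨Submodule.Quotient.mk (c i), (Submodule.Quotient.eq I').2 ?_⟩
      change f i * c i - x ∈ I'
      have h4 : x - f i * c i = ∑ j ∈ Finset.univ.erase i, c j * f j := by
        rw [← hc, ← Finset.add_sum_erase _ _ (Finset.mem_univ i)]; ring
      rw [← neg_sub, h4]
      exact neg_mem (Submodule.sum_mem _ fun j hj =>
        Ideal.mul_mem_left _ _ (hmem j (Finset.ne_of_mem_erase hj)))
    · rintro ⟨y, hy⟩
      obtain ⟨y, rfl⟩ := Submodule.Quotient.mk_surjective _ y
      rw [← hy]
      exact (Submodule.Quotient.mk_eq_zero I).2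
        (Ideal.mul_mem_right _ _ (Ideal.subset_span ⟨i, rfl⟩))
  rw [Module.length_eq_add_of_exact φ ψ hφ hψ hex, add_comm]

lemma length_quotient_powers [IsLocalRing A] (x : Fin r → A)
    (hx : Ideal.span (Set.range x) = IsLocalRing.maximalIdeal A) :
    ∀ (N : ℕ) (e : Fin r → ℕ), ∑ i, e i = N → (∀ i, 0 < e i) →
      Independent (fun i => x i ^ e i) →
      Module.length A (A ⧸ Ideal.span (Set.range fun i => x i ^ e i)) = ∏ i, (e i : ℕ∞) := by
  intro N
  induction N using Nat.strong_induction_on with
  | _ N ih =>
    intro e he hpos hind
    by_cases h1 : ∀ i, e i = 1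
    · have hx' : (fun i => x i ^ e i) = x := by funext i; rw [h1, pow_one]
      rw [hx', hx]
      have : IsSimpleModule A (A ⧸ IsLocalRing.maximalIdeal A) :=
        isSimpleModule_iff_isCoatom.2 (Ideal.IsMaximal.out)
      rw [Module.length_eq_one]
      simp [h1]
    · push Not at h1
      obtain ⟨i, hi⟩ := h1
      have h2 : 1 < e i := by have := hpos i; omega
      let e' := Function.update e i (e i - 1)
      let e'' := Function.update e i 1
      set F := fun j => x j ^ e' j with hF
      have hfun : (fun j => x j ^ e j) = Function.update F i (F i * x i) := by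
        funext j
        by_cases hj : j = i
        · subst hj
          rw [Function.update_self, hF]
          simp only [e', Function.update_self]
          rw [← pow_succ, Nat.sub_add_cancel h2.le]
        · rw [Function.update_of_ne hj, hF]; simp [e', hj]
      have hfun2 : (fun j => x j ^ e'' j) = Function.update F i (x i) := by
        funext j
        by_cases hj : j = i
        · subst hj
          simp [e'']
        · rw [Function.update_of_ne hj, hF]; simp [e', e'', hj]
      rw [hfun] at hind ⊢
      have hind' := independent_of_update_mul F i (x i) hind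
      have hind'' : Independent (Function.update F i (x i)) := by
        refine independent_of_update_mul _ i (F i) ?_
        rw [Function.update_self, Function.update_idem, mul_comm]
        exact hind
      rw [length_quotient_update_mul F i (x i) hind, ← hfun2]
      rw [← hfun2] at hind''
      have hs : ∀ v, ∑ j, Function.update e i v j = v + ∑ j ∈ Finset.univ.erase i, e j := fun v => by
        rw [← Finset.add_sum_erase _ _ (Finset.mem_univ i), Function.update_self,
          Finset.sum_congr rfl fun j hj => by rw [Function.update_of_ne (Finset.ne_of_mem_erase hj)]]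
      have hN : N = e i + ∑ j ∈ Finset.univ.erase i, e j := by
        rw [← he, Finset.add_sum_erase _ _ (Finset.mem_univ i)]
      have hp : ∀ v, 0 < v → ∀ j, 0 < Function.update e i v j := fun v hv j => by
        by_cases hj : j = i
        · subst hj; simpa
        · simpa [Function.update_of_ne hj] using hpos j
      rw [ih _ (by rw [hs, hN]; omega) e' rfl (hp _ (by omega)) hind',
        ih _ (by rw [hs, hN]; omega) e'' rfl (hp _ one_pos) hind'']
      have hprod : ∀ v : ℕ, ∏ j, (Function.update e i v j : ℕ∞) =
          v * ∏ j ∈ Finset.univ.erase i, (e j : ℕ∞) := fun v => by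
        rw [← Finset.mul_prod_erase _ _ (Finset.mem_univ i), Function.update_self,
          Finset.prod_congr rfl fun j hj => by rw [Function.update_of_ne (Finset.ne_of_mem_erase hj)]]
      rw [hprod, hprod, ← Finset.mul_prod_erase _ (fun j => (e j : ℕ∞)) (Finset.mem_univ i), ← add_mul,
        ← Nat.cast_add, Nat.sub_add_cancel h2.le]

lemma independent_map_of_flat (B : Type u) [CommRing B] [Algebra A B] [Module.Flat A B]
    (f : Fin r → A) (hf : Independent f) : Independent (fun i => algebraMap A B (f i)) := by
  intro b hb i
  have h0 : ∑ i, f i • b i = 0 := by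
    rw [← hb]
    exact Finset.sum_congr rfl fun j _ => by rw [Algebra.smul_def, mul_comm]
  obtain ⟨k, c, y, hy, hc⟩ := Module.Flat.isTrivialRelation_of_sum_smul_eq_zero h0
  rw [hy i]
  refine Submodule.sum_mem _ fun j _ => ?_
  have h1 : c i j ∈ Ideal.span (Set.range f) :=
    hf (fun l => c l j) (by rw [← hc j]; exact Finset.sum_congr rfl fun l _ => mul_comm _ _) i
  have h2 := Ideal.mem_map_of_mem (algebraMap A B) h1
  rw [Ideal.map_span, ← Set.range_comp] at h2
  rw [Algebra.smul_def]
  exact Ideal.mul_mem_right _ _ h2

end Groth.LechIndep
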